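import Groth.Agent.VarRegular.GeomRegular
import Groth.Agent.VarNormal.Pointwise

/-! Points of a base change over a given point, in a chart. -/

universe u

open CategoryTheory CategoryTheory.Limits AlgebraicGeometry
open scoped TensorProduct

set_option backward.isDefEq.respectTransparency.types false

namespace Groth.Agent.VarRegular

variable {k : Type u} [Field k] {X : Scheme.{u}} [X.Over (Spec (CommRingCat.of k))]
  {A : Type u} [CommRing A] [Algebra k A] (j : Spec (CommRingCat.of A) ⟶ X) [IsOpenImmersion j]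
  (hj : j ≫ (X ↘ Spec (CommRingCat.of k)) = Spec.map (CommRingCat.ofHom (algebraMap k A)))

include hj in
/-- Stalks over a point of a chart, as localizations of the tensor product. -/
theorem forall_over_iff (p : PrimeSpectrum A) (K : Type u) [Field K] [Algebra k K] :
    (∀ x' : ↥(Curv2.bc k X K), Curv2.bcFst k X K x' = j p →
        IsRegularLocalRing ↥((Curv2.bc k X K).presheaf.stalk x')) ↔
      ∀ (R : Ideal (A ⊗[k] K)) [R.IsPrime], R.comap (algebraMap A (A ⊗[k] K)) = p.asIdeal → RegAt R := by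
  let f := X ↘ Spec (CommRingCat.of k)
  let t := Spec.map (CommRingCat.ofHom (algebraMap k K))
  let c := FBase64.prodChart f t j (𝟙 _) hj (Category.id_comp _)
  have hfst : ∀ P : ↥(Spec (CommRingCat.of (A ⊗[k] K))),
      pullback.fst f t (c P) = j (Spec.map (CommRingCat.ofHom (algebraMap A (A ⊗[k] K))) P) := fun P => by
    rw [← Scheme.Hom.comp_apply, FBase64.prodChart_fst, Scheme.Hom.comp_apply]
  constructor
  · intro h R _ hR
    let P : ↥(Spec (CommRingCat.of (A ⊗[k] K))) := (⟨R, inferInstance⟩ : PrimeSpectrum (A ⊗[k] K))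
    obtain ⟨e⟩ := FBase64.nonempty_stalkEquiv c P
    have := h (c P) ((hfst P).trans (congrArg j (PrimeSpectrum.ext hR)))
    exact IsRegularLocalRing.of_ringEquiv e
  · intro h x' hx'
    obtain ⟨P, rfl⟩ : (show ↥(pullback f t) from x') ∈ Set.range c := by
      rw [FBase64.range_prodChart]; exact ⟨⟨p, hx'.symm⟩, ⟨_, rfl⟩⟩
    obtain ⟨e⟩ := FBase64.nonempty_stalkEquiv c P
    have : IsRegularLocalRing (Localization.AtPrime (show PrimeSpectrum (A ⊗[k] K) from P).asIdeal) :=
      h _ (congrArg PrimeSpectrum.asIdeal (j.isOpenEmbedding.injective ((hfst P).symm.trans hx')))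
    exact IsRegularLocalRing.of_ringEquiv e.symm

/-- Descent of geometric regularity at a point along a base field extension. -/
theorem regAt_of_baseChange_aux {k : Type u} [Field k] (A : Type u) [CommRing A] [Algebra k A] (k' : Type u) [Field k'] [Algebra k k']
    (P' : Ideal (k' ⊗[k] A)) [P'.IsPrime]
    (h : ∀ (M : Type u) [Field M] [Algebra k' M], (⊤ : IntermediateField k' M).FG → ∀ (Q : Ideal ((k' ⊗[k] A) ⊗[k'] M)) [Q.IsPrime],
      Q.comap (algebraMap (k' ⊗[k] A) ((k' ⊗[k] A) ⊗[k'] M)) = P' → RegAt Q)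
    (K : Type u) [Field K] [Algebra k K] [IsPurelyInseparable k K] (M : Type u) [Field M] [Algebra k' M] [Algebra k M] [IsScalarTower k k' M] (hMfg : (⊤ : IntermediateField k' M).FG) (σ : K →ₐ[k] M)
    (R : Ideal (A ⊗[k] K)) [R.IsPrime]
    (hR : R.comap (algebraMap A (A ⊗[k] K)) =
      P'.comap (Algebra.TensorProduct.includeRight : A →ₐ[k] k' ⊗[k] A).toRingHom) : RegAt R := by
  let C := k' ⊗[k] A
  have : Module.FaithfullyFlat C (C ⊗[k'] M) := inferInstance
  obtain ⟨Q, hQ⟩ := PrimeSpectrum.comap_surjective_of_faithfullyFlat (A := C) (B := C ⊗[k'] M)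
    ⟨P', inferInstance⟩
  have hQ' : Q.asIdeal.comap (algebraMap C (C ⊗[k'] M)) = P' := congrArg PrimeSpectrum.asIdeal hQ
  let e : C ⊗[k'] M ≃+* A ⊗[k] M := ((Algebra.TensorProduct.comm k' C M).toRingEquiv.trans
    (Algebra.TensorProduct.cancelBaseChange k k' k' M A).toRingEquiv).trans
      (Algebra.TensorProduct.comm k M A).toRingEquiv
  let j := Algebra.TensorProduct.map (AlgHom.id A A) σ
  let g : A ⊗[k] K →+* C ⊗[k'] M := e.symm.toRingHom.comp j.toRingHom
  have hg : g.Flat := RingHom.Flat.comp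
    (RingHom.Flat.tensorProductMap (RingHom.Flat.id A)
      (RingHom.Flat.of_isField (Field.toIsField K) σ.toRingHom))
    (RingHom.Flat.of_bijective e.symm.bijective)
  have hA : g.comp (algebraMap A (A ⊗[k] K)) = (algebraMap C (C ⊗[k'] M)).comp
      (Algebra.TensorProduct.includeRight : A →ₐ[k] k' ⊗[k] A).toRingHom := by
    refine RingHom.ext fun a => e.injective ?_
    show e (e.symm (j (a ⊗ₜ (1 : K)))) = e (((1 : k') ⊗ₜ[k] a) ⊗ₜ[k'] (1 : M))
    rw [RingEquiv.apply_symm_apply]
    show a ⊗ₜ[k] σ 1 = _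
    rw [map_one]
    show _ = Algebra.TensorProduct.comm k M A
      (Algebra.TensorProduct.cancelBaseChange k k' k' M A ((1 : M) ⊗ₜ[k'] ((1 : k') ⊗ₜ[k] a)))
    rw [Algebra.TensorProduct.cancelBaseChange_tmul, one_smul, Algebra.TensorProduct.comm_tmul]
  have hinj : Function.Injective (PrimeSpectrum.comap (algebraMap A (A ⊗[k] K))) :=
    (PrimeSpectrum.isHomeomorph_comap_of_isPurelyInseparable k K A).bijective.injective
  have : (Q.asIdeal.comap g).IsPrime := Ideal.IsPrime.comap g
  have hRQ : R = Q.asIdeal.comap g := by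
    refine congrArg PrimeSpectrum.asIdeal (@hinj ⟨R, inferInstance⟩ ⟨Q.asIdeal.comap g, inferInstance⟩ ?_)
    refine PrimeSpectrum.ext ?_
    show R.comap _ = (Q.asIdeal.comap g).comap _
    rw [hR, ← hQ', Ideal.comap_comap, Ideal.comap_comap, hA]
  exact regAt_of_flat g hg R Q.asIdeal hRQ (h M hMfg Q.asIdeal hQ')

/-- Descent of geometric regularity at a point along a finitely generated extension. -/
theorem regAt_of_baseChange {k : Type u} [Field k] (A : Type u) [CommRing A] [Algebra k A] (k' : Type u) [Field k'] [Algebra k k']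
    (P' : Ideal (k' ⊗[k] A)) [P'.IsPrime]
    (h : ∀ (M : Type u) [Field M] [Algebra k' M], (⊤ : IntermediateField k' M).FG → ∀ (Q : Ideal ((k' ⊗[k] A) ⊗[k'] M)) [Q.IsPrime],
      Q.comap (algebraMap (k' ⊗[k] A) ((k' ⊗[k] A) ⊗[k'] M)) = P' → RegAt Q)
    (K : Type u) [Field K] [Algebra k K] [IsPurelyInseparable k K] [FiniteDimensional k K]
    (R : Ideal (A ⊗[k] K)) [R.IsPrime]
    (hR : R.comap (algebraMap A (A ⊗[k] K)) =
      P'.comap (Algebra.TensorProduct.includeRight : A →ₐ[k] k' ⊗[k] A).toRingHom) : RegAt R := by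
  let σ₀ : K →ₐ[k] AlgebraicClosure k' := IsAlgClosed.lift
  let bK := Module.finBasis k K
  let M : IntermediateField k' (AlgebraicClosure k') :=
    IntermediateField.adjoin k' (Set.range fun i => σ₀ (bK i))
  have hM : ∀ x, σ₀ x ∈ M := fun x => by
    rw [← bK.sum_repr x, map_sum]
    refine sum_mem fun i _ => ?_
    rw [map_smul, Algebra.smul_def, IsScalarTower.algebraMap_apply k k' (AlgebraicClosure k')]
    exact mul_mem (M.algebraMap_mem _) (IntermediateField.subset_adjoin k' _ ⟨i, rfl⟩)
  have : FiniteDimensional k' M :=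
    IntermediateField.finiteDimensional_adjoin fun x _ => Algebra.IsIntegral.isIntegral x
  let σ : K →ₐ[k] M :=
    { toFun := fun x => ⟨σ₀ x, hM x⟩
      map_one' := Subtype.ext (map_one σ₀)
      map_mul' := fun x y => Subtype.ext (map_mul σ₀ x y)
      map_zero' := Subtype.ext (map_zero σ₀)
      map_add' := fun x y => Subtype.ext (map_add σ₀ x y)
      commutes' := fun c => Subtype.ext ((σ₀.commutes c).trans
        (IsScalarTower.algebraMap_apply k k' (AlgebraicClosure k') c)) }
  exact regAt_of_baseChange_aux A k' P' h K M (IntermediateField.fg_top_iff.2 inferInstance) σ R hR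

end Groth.Agent.VarRegular
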