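import Groth.Agent.CAlg5.GeomRegularFG
import Groth.Agent.CAlg5.FlatDescent
import Mathlib.FieldTheory.PurelyInseparable.PerfectClosure
import Mathlib.RingTheory.Spectrum.Prime.Homeomorph

/-! Geometric regularity needs only finite purely inseparable extensions. -/

universe u

open scoped TensorProduct nonZeroDivisors

namespace Groth.Agent.VarRegular

set_option maxHeartbeats 4000000 in
set_option synthInstance.maxHeartbeats 1000000 in
/-- Every finitely generated field extension is contained in the fraction field of a smooth algebra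
over a finite extension of the ground field. -/
theorem exists_smooth_model (k K kb : Type u) [Field k] [Field K] [Algebra k K]
    [Algebra.EssFiniteType k K] [Field kb] [Algebra k kb] [PerfectField kb] [IsPurelyInseparable k kb] :
    ∃ (k' B L : Type u) (_ : Field k') (_ : CommRing B) (_ : IsDomain B) (_ : Field L)
      (_ : Algebra k k') (_ : Algebra k' B) (_ : Algebra B L) (_ : IsFractionRing B L)
      (_ : Algebra k' L) (_ : IsScalarTower k' B L) (_ : Algebra k L) (_ : IsScalarTower k k' L),
      Module.Finite k k' ∧ IsPurelyInseparable k k' ∧ Algebra.Smooth k' B ∧ Nonempty (K →ₐ[k] L) := by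
  classical
  let Ω := AlgebraicClosure K
  let σ : kb →ₐ[k] Ω := IsAlgClosed.lift
  let : Algebra kb Ω := σ.toRingHom.toAlgebra
  have : IsScalarTower k kb Ω := IsScalarTower.of_algebraMap_eq fun a => (σ.commutes a).symm
  obtain ⟨E, hE⟩ := IntermediateField.fg_top (F := k) (E := K)
  let E' : Finset Ω := E.image (algebraMap K Ω)
  let T := Algebra.adjoin kb (↑E' : Set Ω)
  have : Algebra.FiniteType kb T := (Subalgebra.fg_iff_finiteType T).mp ⟨E', rfl⟩
  have : Algebra.FormallySmooth kb (FractionRing T) := Sep12.formallySmooth_of_perfectField kb _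
  obtain ⟨f, hf, hsm⟩ := CAlg5.exists_smooth_away (k := kb) (T := T)
  let C := Localization.Away f
  have hu : ∀ y : Submonoid.powers f, IsUnit (T.val y) := by
    rintro ⟨_, n, rfl⟩
    exact isUnit_iff_ne_zero.mpr fun h => hf
      (eq_zero_of_pow_eq_zero (n := n) (Subtype.val_injective h))
  let ι : C →ₐ[kb] Ω := IsLocalization.liftAlgHom (M := Submonoid.powers f) (f := T.val) hu
  have hι : ∀ t : T, ι (algebraMap T _ t) = t := fun t => IsLocalization.lift_eq (hg := hu) t
  have hι' : Function.Injective ι := by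
    rw [injective_iff_map_eq_zero]
    intro z hz
    obtain ⟨⟨t, s⟩, rfl⟩ := IsLocalization.mk'_surjective (Submonoid.powers f) z
    have h0 := congrArg (fun w => w * T.val s.1) hz
    simp only [zero_mul] at h0
    change ι (IsLocalization.mk' _ t s) * T.val s.1 = 0 at h0
    rw [show T.val s.1 = ι (algebraMap T _ s.1) from (hι _).symm, ← map_mul, IsLocalization.mk'_spec, hι] at h0
    rw [show t = 0 from Subtype.val_injective h0]
    exact IsLocalization.mk'_zero s
  obtain ⟨A₀, B₀, _, _, hA₀, hB₀, ⟨e⟩⟩ := Algebra.Smooth.exists_subalgebra_fg k kb C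
  have hx : ∀ x : E, ∃ s : Finset (kb × B₀),
      e (algebraMap T C ⟨algebraMap K Ω x, Algebra.subset_adjoin (Finset.mem_image_of_mem _ x.2)⟩) =
        ∑ i ∈ s, i.1 ⊗ₜ[A₀] i.2 := fun x => TensorProduct.exists_finset _
  choose s hs using hx
  let cs : Finset kb := (Finset.univ : Finset E).biUnion fun x => (s x).image Prod.fst
  let A₁ : Subalgebra A₀ kb := Algebra.adjoin A₀ (↑cs : Set kb)
  have : Algebra.FiniteType A₀ A₁ := (Subalgebra.fg_iff_finiteType A₁).mp ⟨cs, rfl⟩
  have : Algebra.FiniteType k A₀ := (Subalgebra.fg_iff_finiteType A₀).mp hA₀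
  have : Algebra.FiniteType k A₁ := Algebra.FiniteType.trans (R := k) (S := A₀) inferInstance inferInstance
  let i1 : A₁ →ₐ[k] kb := A₁.val.restrictScalars k
  have : Algebra.IsIntegral k A₁ := ⟨fun a =>
    (isIntegral_algHom_iff i1 Subtype.val_injective).mp
      (Algebra.IsIntegral.isIntegral (R := k) (A := kb) (i1 a))⟩
  have : Module.Finite k A₁ := Algebra.IsIntegral.finite
  have hF : IsField A₁ := isField_of_isIntegral_of_isField' (Field.toIsField k)
  let := hF.toField
  let B := A₁ ⊗[A₀] B₀
  let j0 : B →ₐ[A₀] kb ⊗[A₀] B₀ := Algebra.TensorProduct.map A₁.val (AlgHom.id A₀ B₀)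
  have hj0 : Function.Injective j0 :=
    Module.Flat.rTensor_preserves_injective_linearMap (M := B₀) A₁.val.toLinearMap Subtype.val_injective
  let j : B →+* Ω := ι.toRingHom.comp (e.symm.toRingHom.comp j0.toRingHom)
  have hj : Function.Injective j := hι'.comp (e.symm.injective.comp hj0)
  have hdom : IsDomain B := hj.isDomain j
  let L := FractionRing B
  let φ : L →+* Ω := IsFractionRing.lift hj
  have hφ : ∀ b, φ (algebraMap B L b) = j b := fun b => IsFractionRing.lift_algebraMap hj b
  have : IsScalarTower k A₁ L := inferInstance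
  let φ' : L →ₐ[k] Ω :=
    { toRingHom := φ
      commutes' := fun a => by
        show φ (algebraMap k L a) = algebraMap k Ω a
        rw [IsScalarTower.algebraMap_apply k A₁ L]
        rw [IsScalarTower.algebraMap_apply A₁ B L, hφ]
        show ι (e.symm (Algebra.TensorProduct.map A₁.val (AlgHom.id A₀ B₀) ((algebraMap k A₁ a) ⊗ₜ 1))) = _
        rw [Algebra.TensorProduct.map_tmul, map_one]
        show ι (e.symm (algebraMap kb (kb ⊗[A₀] B₀) (algebraMap k kb a))) = _
        rw [AlgEquiv.commutes, AlgHom.commutes, ← IsScalarTower.algebraMap_apply] }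
  have hle : (IsScalarTower.toAlgHom k K Ω).fieldRange ≤ φ'.fieldRange := by
    rw [AlgHom.fieldRange_eq_map]
    rw [← hE, IntermediateField.adjoin_map, IntermediateField.adjoin_le_iff]
    rintro _ ⟨x, hx, rfl⟩
    let y : B := ∑ i : { i // i ∈ s ⟨x, hx⟩ },
      (⟨i.1.1, Algebra.subset_adjoin (Finset.mem_biUnion.mpr
        ⟨⟨x, hx⟩, Finset.mem_univ _, Finset.mem_image_of_mem _ i.2⟩)⟩ : A₁) ⊗ₜ i.1.2
    refine ⟨algebraMap B L y, ?_⟩
    show φ (algebraMap B L y) = algebraMap K Ω x
    rw [hφ]
    have hy : j0 y = ∑ i ∈ s ⟨x, hx⟩, i.1 ⊗ₜ[A₀] i.2 := by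
      rw [map_sum, ← Finset.sum_coe_sort (s ⟨x, hx⟩)]
      rfl
    show ι (e.symm (j0 y)) = _
    rw [hy, ← hs ⟨x, hx⟩, AlgEquiv.symm_apply_apply, hι]
  let ψ : K →ₐ[k] L :=
    ((AlgEquiv.ofInjectiveField φ').symm.toAlgHom.comp (IntermediateField.inclusion hle)).comp
      (AlgEquiv.ofInjectiveField (IsScalarTower.toAlgHom k K Ω)).toAlgHom
  have hPI : IsPurelyInseparable k A₁ := by
    have : IsScalarTower k A₁ kb := .of_algebraMap_eq fun x => (i1.commutes x).symm
    exact IsPurelyInseparable.tower_bot k A₁ kb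
  exact ⟨A₁, B, L, inferInstance, inferInstance, hdom, inferInstance, inferInstance, inferInstance,
    inferInstance, inferInstance, inferInstance, inferInstance, inferInstance, inferInstance,
    inferInstance, hPI, inferInstance, ⟨ψ⟩⟩


theorem isRegularRing_tensor_of_purelyInseparable (k K kb S : Type u) [Field k] [Field K] [Algebra k K]
    [Algebra.EssFiniteType k K] [Field kb] [Algebra k kb] [PerfectField kb] [IsPurelyInseparable k kb]
    [CommRing S] [Algebra k S]
    (h : ∀ (k' : Type u) [Field k'] [Algebra k k'], Module.Finite k k' → IsPurelyInseparable k k' →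
      IsRegularRing (k' ⊗[k] S)) : IsRegularRing (K ⊗[k] S) := by
  obtain ⟨k', B, L, _, _, _, _, _, _, _, _, _, _, _, _, hfin, hpi, hsm, ⟨ψ⟩⟩ := exists_smooth_model k K kb
  have : IsRegularRing (k' ⊗[k] S) := h k' hfin hpi
  let W := k' ⊗[k] S
  have : IsRegularRing (W ⊗[k'] B) := CAlg5.isRegularRing_of_smooth W (W ⊗[k'] B)
  have : IsRegularRing (B ⊗[k'] W) :=
    IsRegularRing.of_ringEquiv (Algebra.TensorProduct.comm k' W B).toRingEquiv
  have hreg : IsRegularRing (L ⊗[k'] W) := by
    let : Algebra (B ⊗[k'] W) (L ⊗[k'] W) :=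
      (Algebra.TensorProduct.map (IsScalarTower.toAlgHom k' B L) (AlgHom.id k' W)).toRingHom.toAlgebra
    have : IsScalarTower B (B ⊗[k'] W) (L ⊗[k'] W) := IsScalarTower.of_algebraMap_eq fun b => by
      show algebraMap B L b ⊗ₜ 1 = Algebra.TensorProduct.map (IsScalarTower.toAlgHom k' B L) (AlgHom.id k' W) (b ⊗ₜ 1)
      rw [Algebra.TensorProduct.map_tmul, map_one]; rfl
    have := IsLocalization.tensorProduct_tensorProduct k' W (A := B) (nonZeroDivisors B) L
      (RingHom.ext fun w => by
        show Algebra.TensorProduct.map _ (AlgHom.id k' W) ((1 : B) ⊗ₜ[k'] w) = _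
        rw [Algebra.TensorProduct.map_tmul, map_one]; rfl)
    exact CAlg5.isRegularRing_of_isLocalization (Algebra.algebraMapSubmonoid (B ⊗[k'] W) (nonZeroDivisors B)) _
  let : Algebra K L := ψ.toRingHom.toAlgebra
  have : IsScalarTower k K L := IsScalarTower.of_algebraMap_eq fun a => (ψ.commutes a).symm
  have : IsRegularRing (L ⊗[k] S) :=
    IsRegularRing.of_ringEquiv (Algebra.TensorProduct.cancelBaseChange k k' L L S).toRingEquiv
  have : IsRegularRing (L ⊗[K] (K ⊗[k] S)) :=
    IsRegularRing.of_ringEquiv (Algebra.TensorProduct.cancelBaseChange k K L L S).symm.toRingEquiv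
  have : IsRegularRing ((K ⊗[k] S) ⊗[K] L) :=
    IsRegularRing.of_ringEquiv (Algebra.TensorProduct.comm K L (K ⊗[k] S)).toRingEquiv
  exact CAlg5.isRegularRing_of_faithfullyFlat (K ⊗[k] S) ((K ⊗[k] S) ⊗[K] L)

/-- The finite purely inseparable extensions decide geometric regularity. -/
theorem isRegularRing_tensor_of_forall (k K S : Type u) [Field k] [Field K] [Algebra k K]
    [Algebra.EssFiniteType k K] [CommRing S] [Algebra k S]
    (h : ∀ (k' : Type u) [Field k'] [Algebra k k'], Module.Finite k k' → IsPurelyInseparable k k' →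
      IsRegularRing (k' ⊗[k] S)) : IsRegularRing (K ⊗[k] S) :=
  isRegularRing_tensor_of_purelyInseparable k K (perfectClosure k (AlgebraicClosure k)) S h

/-- The local ring at a prime is regular. -/
def RegAt {C : Type u} [CommRing C] (P : Ideal C) [P.IsPrime] : Prop :=
  IsRegularLocalRing (Localization.AtPrime P)

theorem regAt_congr {C : Type u} [CommRing C] {P P' : Ideal C} [P.IsPrime] [P'.IsPrime] (h : P = P') :
    RegAt P ↔ RegAt P' := by
  subst h; rfl

theorem regAt_localization_iff {C S : Type u} [CommRing C] [CommRing S] [Algebra C S] (M : Submonoid C)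
    [IsLocalization M S] (Q : Ideal S) [Q.IsPrime] :
    RegAt Q ↔ RegAt (Q.comap (algebraMap C S)) := by
  have : IsLocalization.AtPrime (Localization.AtPrime Q) (Q.comap (algebraMap C S)) :=
    IsLocalization.isLocalization_isLocalization_atPrime_isLocalization M (Localization.AtPrime Q) Q
  let e := (IsLocalization.algEquiv (Q.comap (algebraMap C S)).primeCompl
    (Localization.AtPrime (Q.comap (algebraMap C S))) (Localization.AtPrime Q)).toRingEquiv
  exact ⟨fun (_ : IsRegularLocalRing (Localization.AtPrime Q)) => IsRegularLocalRing.of_ringEquiv e.symm,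
    fun (_ : IsRegularLocalRing (Localization.AtPrime (Q.comap (algebraMap C S)))) =>
      IsRegularLocalRing.of_ringEquiv e⟩

theorem isRegularRing_of_forall_maximal {A : Type u} [CommRing A] [IsNoetherianRing A]
    (h : ∀ (M : Ideal A) [M.IsMaximal], RegAt M) : IsRegularRing A := by
  refine isRegularRing_iff.2 fun P _ => ?_
  obtain ⟨M, hM, hPM⟩ := P.exists_le_maximal (Ideal.IsPrime.ne_top ‹_›)
  have : IsRegularLocalRing (Localization.AtPrime M) := h M
  let P' := P.map (algebraMap A (Localization.AtPrime M))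
  have hd : Disjoint (M.primeCompl : Set A) P := Set.disjoint_left.2 fun x hx hxP => hx (hPM hxP)
  have : P'.IsPrime := IsLocalization.isPrime_of_isPrime_disjoint M.primeCompl _ P ‹_› hd
  exact (regAt_congr (IsLocalization.under_map_of_isPrime_disjoint M.primeCompl _ ‹_› hd)).1
    ((regAt_localization_iff M.primeCompl P').1 (CAlg1.regular_localization _ P'))

theorem regAt_of_flat {C D : Type u} [CommRing C] [CommRing D] (f : C →+* D) (hf : f.Flat)
    (P : Ideal C) [P.IsPrime] (Q : Ideal D) [Q.IsPrime] (hP : P = Q.comap f) (h : RegAt Q) : RegAt P := by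
  let g : Localization.AtPrime P →+* Localization.AtPrime Q := Localization.localRingHom P Q f hP
  let := g.toAlgebra
  have : Module.Flat (Localization.AtPrime P) (Localization.AtPrime Q) := hf.localRingHom Q P hP
  have : IsLocalHom (algebraMap (Localization.AtPrime P) (Localization.AtPrime Q)) :=
    Localization.isLocalHom_localRingHom _ _ _ hP
  have := Module.FaithfullyFlat.of_flat_of_isLocalHom (A := Localization.AtPrime P) (B := Localization.AtPrime Q)
  have : IsRegularLocalRing (Localization.AtPrime Q) := h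
  have : IsRegularRing (Localization.AtPrime Q) := isRegularRing_of_forall_maximal fun M _ => by
    obtain rfl := IsLocalRing.eq_maximalIdeal ‹M.IsMaximal›
    exact CAlg1.regular_localization _ _
  have := CAlg5.isRegularRing_of_faithfullyFlat (Localization.AtPrime P) (Localization.AtPrime Q)
  exact IsRegularLocalRing.of_isRegularRing_of_isLocalRing _

variable {k : Type u} [Field k] (A : Type u) [CommRing A] [Algebra k A] (p : Ideal A) [p.IsPrime]
  (K : Type u) [Field K] [Algebra k K]

theorem regAt_of_isRegularRing_local [IsRegularRing (Localization.AtPrime p ⊗[k] K)]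
    (R : Ideal (A ⊗[k] K)) [R.IsPrime] (hR : R.comap (algebraMap A (A ⊗[k] K)) = p) : RegAt R := by
  let Ap := Localization.AtPrime p
  let _ : Algebra (A ⊗[k] K) (Ap ⊗[k] K) :=
    (Algebra.TensorProduct.map (IsScalarTower.toAlgHom A A Ap) (AlgHom.id k K)).toAlgebra
  have : IsScalarTower A (A ⊗[k] K) (Ap ⊗[k] K) := .of_algebraMap_eq fun x => by
    rw [RingHom.algebraMap_toAlgebra]; simp [Algebra.TensorProduct.algebraMap_apply]
  have := IsLocalization.tensorProduct_tensorProduct k K p.primeCompl Ap (by
    ext x; simp [RingHom.algebraMap_toAlgebra])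
  let M := Algebra.algebraMapSubmonoid (A ⊗[k] K) p.primeCompl
  have hd : Disjoint (M : Set (A ⊗[k] K)) R := Set.disjoint_left.2 fun x hx hxR => by
    obtain ⟨a, ha, rfl⟩ := hx
    exact ha (hR ▸ hxR : a ∈ p)
  have : (R.map (algebraMap (A ⊗[k] K) (Ap ⊗[k] K))).IsPrime :=
    IsLocalization.isPrime_of_isPrime_disjoint M _ R ‹_› hd
  exact (regAt_congr (IsLocalization.under_map_of_isPrime_disjoint M _ ‹_› hd)).1
    ((regAt_localization_iff M (R.map (algebraMap (A ⊗[k] K) (Ap ⊗[k] K)))).1
      (IsRegularRing.isRegularLocalRing_localization _))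

theorem isRegularRing_local_of_regAt [IsNoetherianRing (Localization.AtPrime p)] [FiniteDimensional k K]
    (h : ∀ (R : Ideal (A ⊗[k] K)) [R.IsPrime], R.comap (algebraMap A (A ⊗[k] K)) = p → RegAt R) :
    IsRegularRing (Localization.AtPrime p ⊗[k] K) := by
  let Ap := Localization.AtPrime p
  let _ : Algebra (A ⊗[k] K) (Ap ⊗[k] K) :=
    (Algebra.TensorProduct.map (IsScalarTower.toAlgHom A A Ap) (AlgHom.id k K)).toAlgebra
  have : IsScalarTower A (A ⊗[k] K) (Ap ⊗[k] K) := .of_algebraMap_eq fun x => by
    rw [RingHom.algebraMap_toAlgebra]; simp [Algebra.TensorProduct.algebraMap_apply]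
  have := IsLocalization.tensorProduct_tensorProduct k K p.primeCompl Ap (by
    ext x; simp [RingHom.algebraMap_toAlgebra])
  have : IsNoetherianRing (Ap ⊗[k] K) := Algebra.FiniteType.isNoetherianRing Ap _
  refine isRegularRing_of_forall_maximal fun Q _ => ?_
  have hQ : Q.comap (algebraMap Ap (Ap ⊗[k] K)) = IsLocalRing.maximalIdeal Ap :=
    IsLocalRing.eq_maximalIdeal (Ideal.isMaximal_comap_of_isIntegral_of_isMaximal Q)
  refine (regAt_localization_iff (Algebra.algebraMapSubmonoid (A ⊗[k] K) p.primeCompl) Q).2 (h _ ?_)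
  rw [Ideal.comap_comap, ← IsScalarTower.algebraMap_eq A (A ⊗[k] K) (Ap ⊗[k] K),
    IsScalarTower.algebraMap_eq A Ap (Ap ⊗[k] K), ← Ideal.comap_comap, hQ]
  exact IsLocalization.AtPrime.under_maximalIdeal _ p

/-- Geometric regularity at `p` from finite purely inseparable extensions. -/
theorem isRegularRing_local_tensor_of_forall [Algebra.EssFiniteType k K] [IsNoetherianRing (Localization.AtPrime p)]
    (h : ∀ (k' : Type u) [Field k'] [Algebra k k'] [FiniteDimensional k k'] [IsPurelyInseparable k k']
      (R : Ideal (A ⊗[k] k')) [R.IsPrime], R.comap (algebraMap A (A ⊗[k] k')) = p → RegAt R) :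
    IsRegularRing (Localization.AtPrime p ⊗[k] K) := by
  have := isRegularRing_tensor_of_forall k K (Localization.AtPrime p) fun k' _ _ hfin hpi => by
    have := isRegularRing_local_of_regAt A p k' (h k')
    exact IsRegularRing.of_ringEquiv (Algebra.TensorProduct.comm k (Localization.AtPrime p) k').toRingEquiv
  exact IsRegularRing.of_ringEquiv (Algebra.TensorProduct.comm k K (Localization.AtPrime p)).toRingEquiv

end Groth.Agent.VarRegular
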