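import Groth.Agent.VarRegular.GeomRegular
import Groth.Prelude.Def_Found

/-! Geometric regularity and change of the ground field. -/

universe u

open scoped TensorProduct

namespace Groth.Agent.VarRegular

variable (k S : Type u) [Field k] [CommRing S] [Algebra k S]

theorem isRegularRing_tensor_descend (K L : Type u) [Field K] [Algebra k K] [Field L] [Algebra k L]
    [Algebra K L] [IsScalarTower k K L] [IsRegularRing (L ⊗[k] S)] : IsRegularRing (K ⊗[k] S) := by
  have : IsRegularRing (L ⊗[K] (K ⊗[k] S)) :=
    IsRegularRing.of_ringEquiv (Algebra.TensorProduct.cancelBaseChange k K L L S).symm.toRingEquiv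
  have : IsRegularRing ((K ⊗[k] S) ⊗[K] L) :=
    IsRegularRing.of_ringEquiv (Algebra.TensorProduct.comm K L (K ⊗[k] S)).toRingEquiv
  exact CAlg5.isRegularRing_of_faithfullyFlat (K ⊗[k] S) ((K ⊗[k] S) ⊗[K] L)

theorem isRegularRing_of_isGeomRegular (h : CAlg.IsGeometricallyRegular k S) (K : Type u) [Field K]
    [Algebra k K] [Algebra.EssFiniteType k K] : IsRegularRing (K ⊗[k] S) :=
  isRegularRing_tensor_of_forall k K S fun k' _ _ hf _ => h k' hf

theorem isGeomRegular_baseChange (h : CAlg.IsGeometricallyRegular k S) (K : Type u) [Field K] [Algebra k K]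
    [Algebra.EssFiniteType k K] : CAlg.IsGeometricallyRegular K (K ⊗[k] S) := fun L _ _ hL => by
  let _ : Algebra k L := ((algebraMap K L).comp (algebraMap k K)).toAlgebra
  have : IsScalarTower k K L := .of_algebraMap_eq' rfl
  have : Algebra.EssFiniteType k L := Algebra.EssFiniteType.comp k K L
  have := isRegularRing_of_isGeomRegular k S h L
  exact IsRegularRing.of_ringEquiv (Algebra.TensorProduct.cancelBaseChange k K L L S).symm.toRingEquiv

theorem isGeomRegular_of_baseChange (K : Type u) [Field K] [Algebra k K]
    (h : CAlg.IsGeometricallyRegular K (K ⊗[k] S)) : CAlg.IsGeometricallyRegular k S := fun k' _ _ hf => by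
  have := hf
  let σ : k' →ₐ[k] AlgebraicClosure K := IsAlgClosed.lift
  let M : IntermediateField K (AlgebraicClosure K) := IntermediateField.adjoin K (σ '' Set.range (Module.finBasis k k'))
  have : FiniteDimensional K M := IntermediateField.finiteDimensional_adjoin fun x hx => Algebra.IsIntegral.isIntegral x
  have hmem : ∀ x : k', σ x ∈ M := fun x => by
    rw [← (Module.finBasis k k').sum_repr x, map_sum]
    refine sum_mem fun i _ => ?_
    rw [map_smul, Algebra.smul_def, IsScalarTower.algebraMap_apply k K (AlgebraicClosure K)]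
    exact mul_mem (M.algebraMap_mem _) (IntermediateField.subset_adjoin _ _ ⟨_, ⟨i, rfl⟩, rfl⟩)
  let τ : k' →+* M := σ.toRingHom.codRestrict M hmem
  let _ : Algebra k' M := τ.toAlgebra
  have : IsScalarTower k k' M := .of_algebraMap_eq fun x => Subtype.ext (σ.commutes x).symm
  have : IsRegularRing (M ⊗[K] (K ⊗[k] S)) := h M inferInstance
  have : IsRegularRing (M ⊗[k] S) :=
    IsRegularRing.of_ringEquiv (Algebra.TensorProduct.cancelBaseChange k K M M S).toRingEquiv
  exact isRegularRing_tensor_descend k S k' M

end Groth.Agent.VarRegular
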