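import Groth.Agent.VarRegular.Algebra
import Groth.Agent.CAlg5.RegularHom
import Groth.Agent.CAlg5.GeomRegular
import Groth.Agent.VarGal.SmoothGeomReg

/-! Regularity of tensor products of algebras over a field. -/

universe u

open scoped TensorProduct

namespace Groth.Agent.VarRegular

theorem smooth_of_isGeomRegular (k A : Type u) [Field k] [CommRing A] [Algebra k A] [Algebra.FiniteType k A]
    (h : CAlg.IsGeometricallyRegular k A) : Algebra.Smooth k A := by
  have : Algebra.FinitePresentation k A := Algebra.FinitePresentation.of_finiteType.mp ‹_›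
  refine ⟨Algebra.smoothLocus_eq_univ_iff.mp (Set.eq_univ_iff_forall.mpr fun q => ?_), this⟩
  refine VarGal.isSmoothAt_of_regular_baseChange (k := k) A q.asIdeal ?_
  intro L _ _ hL P _ _
  have := h L hL
  exact IsRegularRing.isRegularLocalRing_localization P

theorem isRegularRing_tensor_algebras (k S T : Type u) [Field k] [CommRing S] [CommRing T] [Algebra k S]
    [Algebra k T] (hft : Algebra.FiniteType k S ∨ Algebra.FiniteType k T) [IsNoetherianRing (S ⊗[k] T)]
    (hS : IsRegularRing S) (hT : CAlg.IsGeometricallyRegular k T) : IsRegularRing (S ⊗[k] T) := by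
  rcases hft with h | h
  · refine CAlg5.isRegularRing_of_fibres S (S ⊗[k] T) fun p _ => ?_
    have : Algebra.EssFiniteType k p.ResidueField := Algebra.EssFiniteType.comp k S _
    have := isRegularRing_of_isGeomRegular k T hT p.ResidueField
    exact IsRegularRing.of_ringEquiv
      (Algebra.TensorProduct.cancelBaseChange k S p.ResidueField p.ResidueField T).symm.toRingEquiv
  · have := smooth_of_isGeomRegular k T hT
    exact CAlg5.isRegularRing_of_smooth S (S ⊗[k] T)

theorem isGeomRegular_tensor_algebras (k S T : Type u) [Field k] [CommRing S] [CommRing T] [Algebra k S]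
    [Algebra k T] (hft : Algebra.FiniteType k S ∨ Algebra.FiniteType k T) [IsNoetherianRing (S ⊗[k] T)]
    (hS : CAlg.IsGeometricallyRegular k S) (hT : CAlg.IsGeometricallyRegular k T) :
    CAlg.IsGeometricallyRegular k (S ⊗[k] T) := fun l _ _ hl => by
  have := hl
  have : IsNoetherianRing ((S ⊗[k] T) ⊗[k] l) := Algebra.FiniteType.isNoetherianRing (S ⊗[k] T) _
  have : IsNoetherianRing (l ⊗[k] (S ⊗[k] T)) :=
    isNoetherianRing_of_ringEquiv _ (Algebra.TensorProduct.comm k (S ⊗[k] T) l).toRingEquiv
  let e : (l ⊗[k] S) ⊗[l] (l ⊗[k] T) ≃+* l ⊗[k] (S ⊗[k] T) :=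
    (Algebra.TensorProduct.cancelBaseChange k l l (l ⊗[k] S) T).toRingEquiv.trans
      (Algebra.TensorProduct.assoc k k k l S T).toRingEquiv
  have : IsNoetherianRing ((l ⊗[k] S) ⊗[l] (l ⊗[k] T)) := isNoetherianRing_of_ringEquiv _ e.symm
  have h' : Algebra.FiniteType l (l ⊗[k] S) ∨ Algebra.FiniteType l (l ⊗[k] T) :=
    hft.imp (fun h => by have := h; infer_instance) (fun h => by have := h; infer_instance)
  have := isRegularRing_tensor_algebras l (l ⊗[k] S) (l ⊗[k] T) h' (hS l hl)
    (isGeomRegular_baseChange k T hT l)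
  exact IsRegularRing.of_ringEquiv e

end Groth.Agent.VarRegular
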