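import Groth.Agent.VarRegular.Algebra
import Groth.Agent.CAlg4.RegularField

/-! Tensor products of fields, one of which is geometrically reduced. -/

universe u

open scoped TensorProduct nonZeroDivisors

namespace Groth.Agent.VarRegular

variable (k K L : Type u) [Field k] [Field K] [Field L] [Algebra k K] [Algebra k L]
  [Algebra.IsGeometricallyReduced k L]

theorem isGeomRegular_field : CAlg.IsGeometricallyRegular k L := fun k' _ _ hk' => by
  have : IsArtinianRing (L ⊗[k] k') := IsArtinianRing.of_finite L _
  have : IsReduced (k' ⊗[k] L) := inferInstance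
  have : IsReduced (L ⊗[k] k') :=
    isReduced_of_injective (Algebra.TensorProduct.comm k L k') (Algebra.TensorProduct.comm k L k').injective
  have := CAlg4.RegularField.regular_of_artinian_reduced (L ⊗[k] k')
  exact IsRegularRing.of_ringEquiv (Algebra.TensorProduct.comm k L k').toRingEquiv

theorem isRegularRing_fraction_tensor (k A L K : Type u) [Field k] [CommRing A] [CommRing L] [CommRing K]
    [Algebra k A] [Algebra A L] [Algebra k L] [IsScalarTower k A L] [IsFractionRing A L] [Algebra k K]
    [IsRegularRing (A ⊗[k] K)] : IsRegularRing (L ⊗[k] K) := by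
  let : Algebra (A ⊗[k] K) (L ⊗[k] K) :=
    (Algebra.TensorProduct.map (IsScalarTower.toAlgHom k A L) (AlgHom.id k K)).toRingHom.toAlgebra
  have : IsScalarTower A (A ⊗[k] K) (L ⊗[k] K) := IsScalarTower.of_algebraMap_eq fun b => by
    show algebraMap A L b ⊗ₜ 1 = Algebra.TensorProduct.map (IsScalarTower.toAlgHom k A L) (AlgHom.id k K) (b ⊗ₜ 1)
    rw [Algebra.TensorProduct.map_tmul, map_one]; rfl
  have := IsLocalization.tensorProduct_tensorProduct k K (A := A) (nonZeroDivisors A) L
    (RingHom.ext fun w => by
      show Algebra.TensorProduct.map _ (AlgHom.id k K) ((1 : A) ⊗ₜ[k] w) = _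
      rw [Algebra.TensorProduct.map_tmul, map_one]; rfl)
  exact
    CAlg5.isRegularRing_of_isLocalization (Algebra.algebraMapSubmonoid (A ⊗[k] K) (nonZeroDivisors A)) _

theorem isRegularRing_tensor_of_separable_essFiniteType [Algebra.EssFiniteType k L] :
    IsRegularRing (K ⊗[k] L) := by
  obtain ⟨E, hE⟩ := IntermediateField.fg_top (F := k) (E := L)
  obtain ⟨A, hA, hsm⟩ := CAlg5.exists_subalgebra_smooth k L E
  have : IsFractionRing A L := IsFractionRing.of_field A L fun z => by
    obtain ⟨r, hr, s, hs, rfl⟩ := IntermediateField.mem_adjoin_iff_div.1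
      (hE.ge IntermediateField.mem_top : z ∈ IntermediateField.adjoin k (E : Set L))
    exact ⟨⟨r, Algebra.adjoin_le hA hr⟩, ⟨s, Algebra.adjoin_le hA hs⟩, rfl⟩
  have : IsRegularRing (K ⊗[k] A) := CAlg5.isRegularRing_of_smooth K (K ⊗[k] A)
  have : IsRegularRing (A ⊗[k] K) :=
    IsRegularRing.of_ringEquiv (Algebra.TensorProduct.comm k K A).toRingEquiv
  have := isRegularRing_fraction_tensor k A L K
  exact IsRegularRing.of_ringEquiv (Algebra.TensorProduct.comm k L K).toRingEquiv

theorem isRegularRing_tensor_fields (h : Algebra.EssFiniteType k K ∨ Algebra.EssFiniteType k L) :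
    IsRegularRing (K ⊗[k] L) := by
  rcases h with h | h
  · exact isRegularRing_of_isGeomRegular k L (isGeomRegular_field k L) K
  · exact isRegularRing_tensor_of_separable_essFiniteType k K L

end Groth.Agent.VarRegular
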